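import Cfsg.Agent.Comp.M11.Up
import Cfsg.Agent.Comp.M11.Nets

set_option autoImplicit false
set_option maxRecDepth 100000

namespace Cfsg.Agent.Comp.M11
open Cfsg.Agent.Comp

def W0 : List (List Nat) := [[0],
[1],
[2],
[3],
[4],
[5]]

noncomputable def phi : G →* Equiv.Perm ℕ := (pres.rep ok sat).choose

theorem rep : Rep s 7 11 T phi := (pres.rep ok sat).choose_spec

theorem trans : ∀ i < 11, ∃ g, phi g 0 = i :=
  rep.trans (sch := [6, 0, 2, 5, 0, 4]) (by decide +kernel)

theorem stab : (genW s W0).index = 11 ∧ ∀ g, g ∈ genW s W0 ↔ phi g 0 = 0 :=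
  rep.stab_eq (by decide +kernel) (by norm_num) trans (by decide +kernel) (Top.index _ s pres.sat)

theorem orb1 : MulAction.orbit (genW (sig T) W0) 1 = Set.Ico 1 (1 + 10) ∧
    (MulAction.orbit (genW (sig T) W0) 1).ncard = 10 :=
  orbit_ivl (sch := [5, 0, 2, 5, 0, 4]) ok (by norm_num) (by norm_num) (by decide +kernel) (by decide +kernel)

namespace Col

noncomputable def t0 : Tr := (Tr.node (nat_lit 0) (Tr.leaf (nat_lit 0x8c91173ffffff0ccfffffffffffffc5483a3fff0097fffffffffffffffe22445a0acffffffffffffffffffff191268804492a499fff935fffffff8a8884bffe011ffffffffffffffffc444aafffffff8044a2bfffffffffe12251724d0467ffe011ffffffc1270111e87fffffffff02985500221124c81640021fff209fffffffffffffa540720060008028bffffffffffffd220511209fffc020024fffffffffe8d01c98b54528317fff8043ffe0594481747ffe3d3fff80407a1ffffffa14082201f12880741b3ffffff8041020650fff9144aa061030800408a0000fff97407a07503681c40d206d0))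
(Tr.leaf (nat_lit 0x7fffffffffffffffffffffffff8003fffffffffffffffffffffffffc001fffffffffffffffffffffffffe000ffffffffffffffffffffffffff0007fffffffffffffffffffffffff8003fffffffffffffffffffffffffc001fffffffffffffffffffffffffe000ffffffffffffffffffffffffff0007fffffffffffffffffffffffff8003fffffffffffffffffffffffffc001ffffffffffffffffffffffffff0d5ffffffc0afffffffffffffffff84a936bfffffffff8057fffffffffc64c7aa013fffffffffffffffffffe2a6354fff804fffe29606b7ffffff1131ebffffffe013fffffffffffff)))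

noncomputable def T : Tr := t0

def RT : List (List (List Nat)) := [
  [[nat_lit 3, nat_lit 0, nat_lit 3],
   [nat_lit 2, nat_lit 0, nat_lit 2],
   [nat_lit 1, nat_lit 2, nat_lit 2],
   [nat_lit 0]],
  [[nat_lit 1]],
  [[nat_lit 5, nat_lit 6, nat_lit 4],
   [nat_lit 0, nat_lit 0, nat_lit 3],
   [nat_lit 2]],
  [[nat_lit 1, nat_lit 1, nat_lit 2],
   [nat_lit 0, nat_lit 2, nat_lit 1],
   [nat_lit 5, nat_lit 2, nat_lit 1, nat_lit 5, nat_lit 0, nat_lit 5],
   [nat_lit 3],
   [nat_lit 5, nat_lit 6, nat_lit 5, nat_lit 1, nat_lit 5, nat_lit 6, nat_lit 5]],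
  [[nat_lit 6, nat_lit 4, nat_lit 6],
   [nat_lit 4],
   [nat_lit 6, nat_lit 5, nat_lit 2]],
  [[nat_lit 0, nat_lit 5, nat_lit 2, nat_lit 5, nat_lit 2, nat_lit 1],
   [nat_lit 5],
   [nat_lit 0, nat_lit 3, nat_lit 5, nat_lit 3, nat_lit 5, nat_lit 1],
   [nat_lit 2, nat_lit 4, nat_lit 6],
   [nat_lit 6, nat_lit 5, nat_lit 1, nat_lit 5, nat_lit 6, nat_lit 5, nat_lit 2]],
  [[nat_lit 5, nat_lit 2, nat_lit 4],
   [nat_lit 4, nat_lit 3, nat_lit 5],
   [nat_lit 6]],
  [[nat_lit 5, nat_lit 6, nat_lit 4, nat_lit 3],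
   [nat_lit 5, nat_lit 5],
   [nat_lit 3, nat_lit 5, nat_lit 6, nat_lit 4],
   [nat_lit 3, nat_lit 2],
   [nat_lit 2, nat_lit 3],
   [nat_lit 1, nat_lit 0],
   [nat_lit 4, nat_lit 4],
   [nat_lit 5, nat_lit 6, nat_lit 5, nat_lit 6, nat_lit 5, nat_lit 6],
   [nat_lit 6, nat_lit 6],
   [nat_lit 3, nat_lit 1, nat_lit 4, nat_lit 0, nat_lit 4, nat_lit 3, nat_lit 4]]]

def HT : List (List (Nat × Nat × Nat)) := [
  [(1, 9, 0), (0, 9, 3), (1, 8, 3), (0, 1, 0)],
  [(0, 1, 1)],
  [(1, 0, 3), (0, 8, 0), (0, 3, 0)],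
  [(1, 8, 2), (0, 9, 0), (1, 11, 4), (0, 3, 1), (1, 15, 4)],
  [(0, 13, 1), (0, 5, 0), (0, 0, 3)],
  [(1, 11, 1), (0, 6, 0), (0, 11, 0), (0, 0, 1), (1, 15, 5)],
  [(0, 0, 0), (1, 0, 1), (0, 7, 0)],
  [(1, 0, 3), (0, 6, 0), (1, 0, 2), (0, 3, 1), (0, 3, 0), (0, 1, 1), (0, 5, 0), (0, 14, 0), (0, 7, 0), (1, 10, 5)]]

def R : List (List Nat) :=
  [[5, 2, 4, 6],
   [0, 1],
   [1, 0],
   [2, 3],
   [3, 2],
   [4, 4],
   [5, 5],
   [6, 6],
   [0, 0, 3, 3],
   [0, 2, 1, 2],
   [0, 2, 4, 2, 4, 1, 4],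
   [0, 3, 5, 3, 5, 1, 5],
   [0, 2, 4, 1, 5, 3, 4, 0, 5],
   [4, 6, 4, 6],
   [5, 6, 5, 6, 5, 6],
   [0, 5, 6, 5, 3, 5, 6, 5]]

def W : List (List Nat) := []

noncomputable def P : Par := ⟨T, (nat_lit 4), (nat_lit 15), (nat_lit 117), (nat_lit 13), (nat_lit 8191), (nat_lit 6), (nat_lit 63), (nat_lit 7), (nat_lit 17), (nat_lit 48), (nat_lit 0x8398a410c01), RT⟩

noncomputable def J0 : List Nat := [
  nat_lit 0x470020c41905b0021c45f0022c4112c008f1844f0022c44f0023c4570021c44b0021c41118461180079c61041664e000c71446f0021c514658800d7104114c008b18414530031c4146b5f0015316646000c710610578000c315204a00062c558000c3121c0031c41041461048b0022c45c800c710410418a00030c61824e000c311860033c4104104830021c4184599ac012314a66000cb18548000c714e00030c410414870011311880030c410610599382180060c5760022c473000cf1041048f0023c610414730011b1041041061047b000c710415e00030c411fc0087156925e000074c611c95800067c410410410412800c716a52800db104104106104810410412800c310417252800e31,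
  nat_lit 0x10410610415e56800e310415a8a000c315a128620018b10610549780010b104104104185595a0036c410418410416a1c80042c410410415e15800cf1041041041041041041041041041041041041041041041041041041041041041041041041041041041041041041041041041041041041041041041041041041041041041]

theorem c0 : chk T (nat_lit 4) (nat_lit 15) (nat_lit 117) (nat_lit 13) (nat_lit 8191) (nat_lit 6) (nat_lit 63) (nat_lit 7) (nat_lit 17) (nat_lit 48) (nat_lit 0x8398a410c01) (nat_lit 4) (nat_lit 15) RT (nat_lit 16) J0 (nat_lit 16) = true := by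
  decide +kernel

theorem r0 : P.RowsOK 16 48 := chk_sound P _ _ _ J0 _ _ (by decide +kernel) c0

theorem index.{u} : IndexLe.{u} 7 R W 1 :=
  indexLe_of_cert P HT (by decide +kernel)
    (show P.RowsOK 16 48 from r0)

end Col

theorem card : Finite G ∧ Nat.card G = 7920 ∧ Function.Injective phi :=
  rep.card_eq up low

def primT : List (List Nat × List Nat) :=
  [([6], [0, 1, 3, 6, 1, 5])]

theorem prim_0 : Nat.beq (grow T ([6] :: W0) [0, 1, 3, 6, 1, 5] (pt (nat_lit 0))) (ivl (nat_lit 0) (nat_lit 11)) = true := by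
  decide +kernel

theorem prim : Prim (gen (sig T) 7) 0 :=
  prim_of_cert (W := W0) (ts := primT) (sch := [0, 2, 5, 0, 4]) ok (ok.genW_le _) (by norm_num) (genW_le_gen (by decide +kernel)) (by decide +kernel)
    (fun t ht => ev_mem fun x hx => letter_mem_gen ((by decide +kernel : ∀ t ∈ primT, ∀ x ∈ t.1, x < 7) t ht x hx)) (by decide +kernel)
    (by simp only [primT, List.forall_mem_cons]; exact ⟨prim_0, by simp⟩)

def XP : List (List Nat) := [[5, 2, 4, 6, 5, 2, 4, 6, 5, 2, 4, 6, 5, 2, 4, 6, 5, 2, 4, 6, 5, 2, 4, 6, 5, 2, 4, 6, 5, 2, 4, 6, 5, 2, 4, 6, 5, 2, 4, 6, 5, 2, 4, 6]]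

theorem satX : Sat (sig T) XP :=
  sat_of_relsP ok (by norm_num) (show relsP (nat_lit 11) (nat_lit 4) (nat_lit 0) (nat_lit 4) T XP = true by decide +kernel)

theorem simple : IsSimpleGroup G :=
  rep.simple (m := 720) (p := 11) (X := [[5, 2, 4, 6]]) card.2.2 (by norm_num) (by norm_num) trans prim card.2.1 (by norm_num) pres.sat
    Col.index (by decide +kernel) (by decide +kernel) (satX.mono (by decide +kernel))


end Cfsg.Agent.Comp.M11
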