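import Cfsg.Agent.Comp.TC
import Cfsg.Agent.Comp.M11.Pres

set_option autoImplicit false
set_option maxRecDepth 100000

namespace Cfsg.Agent.Comp.M11.Top
open Cfsg.Agent.Comp

noncomputable def t0 : Tr := (Tr.leaf (nat_lit 0x7fffffffffffffffffffffffff8003fffffffffffffffffffffffffc001fffffffffffffffffffffffffe000ffffffffffffffffffffffffff0007fffffffffffffffffffffffffc25fffe15a0dd005c37419a0bd05698e5fff07a81d026805300901500eac52fff83c81a6172009034c0aa0746097ffc26e0f701d01501aa012079a2c7ffe05600884580ec05603b01590e3fff06c82c81e60b700882640f0851fff84cc13215900881dc130079418fffc2a80b806a82e00f2117008a047ffe11804a866007203800880dc9a1fff00800d80a203501a00cc064000fff80c406003002800c00a0030))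

noncomputable def T : Tr := t0

def RT : List (List (List Nat)) := [
  [[nat_lit 3, nat_lit 0, nat_lit 3],
   [nat_lit 1, nat_lit 2, nat_lit 2],
   [nat_lit 8],
   [nat_lit 5, nat_lit 6, nat_lit 5, nat_lit 2, nat_lit 5, nat_lit 6, nat_lit 5],
   [nat_lit 4, nat_lit 0, nat_lit 2, nat_lit 4, nat_lit 2, nat_lit 4]],
  [[nat_lit 3, nat_lit 1, nat_lit 3],
   [nat_lit 2, nat_lit 1, nat_lit 2]],
  [[nat_lit 8],
   [nat_lit 5, nat_lit 6, nat_lit 5, nat_lit 0, nat_lit 5, nat_lit 6, nat_lit 5],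
   [nat_lit 4, nat_lit 3, nat_lit 1, nat_lit 4, nat_lit 0, nat_lit 4]],
  [[nat_lit 1, nat_lit 1, nat_lit 2],
   [nat_lit 2, nat_lit 1, nat_lit 1],
   [nat_lit 0, nat_lit 2, nat_lit 1],
   [nat_lit 1, nat_lit 2, nat_lit 0]],
  [[nat_lit 8],
   [nat_lit 6, nat_lit 4, nat_lit 6],
   [nat_lit 3, nat_lit 1, nat_lit 5, nat_lit 1, nat_lit 4, nat_lit 2, nat_lit 5, nat_lit 0],
   [nat_lit 0, nat_lit 5, nat_lit 0, nat_lit 2, nat_lit 4, nat_lit 1, nat_lit 5, nat_lit 3],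
   [nat_lit 1, nat_lit 4, nat_lit 0, nat_lit 2, nat_lit 4, nat_lit 2],
   [nat_lit 1, nat_lit 5, nat_lit 3, nat_lit 4, nat_lit 0, nat_lit 5, nat_lit 0, nat_lit 2]],
  [[nat_lit 8],
   [nat_lit 1, nat_lit 5, nat_lit 0, nat_lit 3, nat_lit 5, nat_lit 3],
   [nat_lit 0, nat_lit 5, nat_lit 2, nat_lit 5, nat_lit 2, nat_lit 1],
   [nat_lit 2, nat_lit 1, nat_lit 5, nat_lit 0, nat_lit 5, nat_lit 2],
   [nat_lit 2, nat_lit 5, nat_lit 2, nat_lit 1, nat_lit 5, nat_lit 0],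
   [nat_lit 0, nat_lit 4, nat_lit 3, nat_lit 1, nat_lit 5, nat_lit 1, nat_lit 4, nat_lit 2]],
  [[nat_lit 5, nat_lit 6, nat_lit 5, nat_lit 6, nat_lit 5],
   [nat_lit 5, nat_lit 1, nat_lit 5, nat_lit 6, nat_lit 5, nat_lit 2, nat_lit 5],
   [nat_lit 5, nat_lit 0, nat_lit 5, nat_lit 6, nat_lit 5, nat_lit 3, nat_lit 5],
   [nat_lit 5, nat_lit 2, nat_lit 5, nat_lit 6, nat_lit 5, nat_lit 1, nat_lit 5],
   [nat_lit 4, nat_lit 6, nat_lit 4]],
  []]

def HT : List (List (Nat × Nat × Nat)) := [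
  [(1, 8, 0), (1, 7, 3), (2, 0, 0), (1, 14, 0), (0, 9, 6)],
  [(1, 8, 2), (0, 8, 1)],
  [(2, 2, 0), (0, 14, 5), (1, 9, 4)],
  [(1, 7, 2), (1, 7, 1), (0, 8, 0), (0, 8, 2)],
  [(2, 4, 0), (0, 12, 1), (1, 11, 7), (0, 11, 7), (0, 9, 5), (0, 11, 3)],
  [(2, 5, 0), (0, 10, 5), (1, 10, 1), (1, 10, 5), (1, 10, 3), (1, 11, 5)],
  [(0, 13, 0), (1, 14, 6), (0, 14, 7), (1, 14, 2), (0, 12, 0)],
  []]

def W : List (List Nat) := [[0],
   [1],
   [2],
   [3],
   [4],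
   [5]]

noncomputable def P : Par := ⟨T, (nat_lit 4), (nat_lit 15), (nat_lit 117), (nat_lit 13), (nat_lit 8191), (nat_lit 5), (nat_lit 31), (nat_lit 7), (nat_lit 27), (nat_lit 32), (nat_lit 0x8398a410c01), RT⟩

noncomputable def J0 : List Nat := [
  nat_lit 0x15900008c8000464001190100062211100301881240100440410234061a18f14171086a168470814e2ed01c208fc108421084210842108421084210842108421084210842108421]

theorem c0 : chk T (nat_lit 4) (nat_lit 15) (nat_lit 117) (nat_lit 13) (nat_lit 8191) (nat_lit 5) (nat_lit 31) (nat_lit 7) (nat_lit 27) (nat_lit 32) (nat_lit 0x8398a410c01) (nat_lit 3) (nat_lit 7) RT (nat_lit 16) J0 (nat_lit 16) = true := by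
  decide +kernel

theorem r0 : P.RowsOK 16 32 := chk_sound P _ _ _ J0 _ _ (by decide +kernel) c0

theorem index.{u} : IndexLe.{u} 7 M11.R W 11 :=
  indexLe_of_cert P HT (by decide +kernel)
    (show P.RowsOK 16 32 from r0)

end Cfsg.Agent.Comp.M11.Top
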