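import Cfsg.Agent.Comp.M11.Pres
import Cfsg.Agent.Comp.M11.Top

set_option autoImplicit false
set_option maxRecDepth 100000

namespace Cfsg.Agent.Comp.M11
open Cfsg.Agent.Comp

namespace Tk2

noncomputable def t0 : Tr := (Tr.leaf (nat_lit 0xfffffffffffffff000fffffffffffffff000fffffffffffffff000fffffffffffffff000fffffffffffffff000fffffffffffffff000fffffffffffffff000fffffffffffffff871fff052011053074851fff0110d2054073811fff0530d40110f2470fff0b5010097076450fff010075096077430fff0b6077115010410fff037036010035000fff034033032031))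

noncomputable def T : Tr := t0

def RT : List (List (List Nat)) := [
  [[nat_lit 3, nat_lit 0, nat_lit 3],
   [nat_lit 1, nat_lit 2, nat_lit 2]],
  [[nat_lit 3, nat_lit 1, nat_lit 3],
   [nat_lit 2, nat_lit 1, nat_lit 2]],
  [],
  [[nat_lit 1, nat_lit 1, nat_lit 2],
   [nat_lit 2, nat_lit 1, nat_lit 1],
   [nat_lit 0, nat_lit 2, nat_lit 1],
   [nat_lit 1, nat_lit 2, nat_lit 0]],
  []]

def HT : List (List (Nat × Nat × Nat)) := [
  [(1, 5, 0), (1, 4, 3)],
  [(1, 5, 2), (0, 5, 1)],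
  [],
  [(1, 4, 2), (1, 4, 1), (0, 5, 0), (0, 5, 2)],
  []]

def R : List (List Nat) :=
  [[0, 1],
   [1, 0],
   [2, 3],
   [3, 2],
   [0, 0, 3, 3],
   [0, 2, 1, 2]]

def W : List (List Nat) := []

noncomputable def P : Par := ⟨T, (nat_lit 4), (nat_lit 15), (nat_lit 72), (nat_lit 12), (nat_lit 4095), (nat_lit 5), (nat_lit 31), (nat_lit 4), (nat_lit 24), (nat_lit 32), (nat_lit 0xa410c01), RT⟩

noncomputable def J0 : List Nat := [
  nat_lit 0x22200620408022102342e2105a110a716108421084210842108421084210842108421084210842108421]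

theorem c0 : chk T (nat_lit 4) (nat_lit 15) (nat_lit 72) (nat_lit 12) (nat_lit 4095) (nat_lit 5) (nat_lit 31) (nat_lit 4) (nat_lit 24) (nat_lit 32) (nat_lit 0xa410c01) (nat_lit 3) (nat_lit 7) RT (nat_lit 16) J0 (nat_lit 16) = true := by
  decide +kernel

theorem r0 : P.RowsOK 16 32 := chk_sound P _ _ _ J0 _ _ (by decide +kernel) c0

theorem index.{u} : IndexLe.{u} 4 R W 8 :=
  indexLe_of_cert P HT (by decide +kernel)
    (show P.RowsOK 16 32 from r0)

end Tk2

theorem upK_2 : CardLe (genW s [[0], [1], [2], [3]]) 8 :=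
  CardLe.tc (V' := []) (n := 8) (m := 1) [0, 1, 2, 3] Tk2.index pres.sat (by decide +kernel) (by decide +kernel) (by decide +kernel) (cardLe_nil s)

namespace Tk1

noncomputable def t0 : Tr := (Tr.leaf (nat_lit 0xffffffffffffffffff000ffffffffffffffffff000ffffffffffffffffff000ffffffffffffffffff000ffffffffffffffffff000ffffffffffffffffff000ffffffffffffffffffc72fff093053012054075c52fff0550120d3055074c12fff0f60540d50120f3871fff0770b6011098077851fff072011076097078831fff0b80b7078116011811fff094038037011036490fff010035034033032000fff031050030050030))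

noncomputable def T : Tr := t0

def RT : List (List (List Nat)) := [
  [[nat_lit 3, nat_lit 0, nat_lit 3],
   [nat_lit 1, nat_lit 2, nat_lit 2],
   [nat_lit 6]],
  [[nat_lit 3, nat_lit 1, nat_lit 3],
   [nat_lit 2, nat_lit 1, nat_lit 2]],
  [[nat_lit 6]],
  [[nat_lit 1, nat_lit 1, nat_lit 2],
   [nat_lit 2, nat_lit 1, nat_lit 1],
   [nat_lit 0, nat_lit 2, nat_lit 1],
   [nat_lit 1, nat_lit 2, nat_lit 0]],
  [[nat_lit 3, nat_lit 1, nat_lit 4, nat_lit 0, nat_lit 4, nat_lit 3],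
   [nat_lit 2, nat_lit 4, nat_lit 1, nat_lit 4, nat_lit 0, nat_lit 2],
   [nat_lit 0, nat_lit 2, nat_lit 4, nat_lit 2, nat_lit 4, nat_lit 1],
   [nat_lit 3, nat_lit 4, nat_lit 3, nat_lit 1, nat_lit 4, nat_lit 0]],
  []]

def HT : List (List (Nat × Nat × Nat)) := [
  [(1, 6, 0), (1, 5, 3), (2, 0, 0)],
  [(1, 6, 2), (0, 6, 1)],
  [(2, 2, 0)],
  [(1, 5, 2), (1, 5, 1), (0, 6, 0), (0, 6, 2)],
  [(1, 7, 5), (0, 7, 3), (0, 7, 0), (1, 7, 3)],
  []]

def R : List (List Nat) :=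
  [[0, 1],
   [1, 0],
   [2, 3],
   [3, 2],
   [4, 4],
   [0, 0, 3, 3],
   [0, 2, 1, 2],
   [0, 2, 4, 2, 4, 1, 4]]

def W : List (List Nat) := [[0],
   [1],
   [2],
   [3]]

noncomputable def P : Par := ⟨T, (nat_lit 4), (nat_lit 15), (nat_lit 84), (nat_lit 12), (nat_lit 4095), (nat_lit 5), (nat_lit 31), (nat_lit 5), (nat_lit 25), (nat_lit 32), (nat_lit 0x18a410c01), RT⟩

noncomputable def J0 : List Nat := [
  nat_lit 0x564000232004002211100062040100468408d01710985a11414e2e042108421084210842108421084210842108421084210842108421]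

theorem c0 : chk T (nat_lit 4) (nat_lit 15) (nat_lit 84) (nat_lit 12) (nat_lit 4095) (nat_lit 5) (nat_lit 31) (nat_lit 5) (nat_lit 25) (nat_lit 32) (nat_lit 0x18a410c01) (nat_lit 3) (nat_lit 7) RT (nat_lit 16) J0 (nat_lit 16) = true := by
  decide +kernel

theorem r0 : P.RowsOK 16 32 := chk_sound P _ _ _ J0 _ _ (by decide +kernel) c0

theorem index.{u} : IndexLe.{u} 5 R W 9 :=
  indexLe_of_cert P HT (by decide +kernel)
    (show P.RowsOK 16 32 from r0)

end Tk1

theorem upK_1 : CardLe (genW s [[0], [1], [2], [3], [4]]) 72 :=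
  CardLe.tc (V' := [[0], [1], [2], [3]]) (n := 9) (m := 8) [0, 1, 2, 3, 4] Tk1.index pres.sat (by decide +kernel) (by decide +kernel) (by decide +kernel) upK_2

namespace Tk0

noncomputable def t0 : Tr := (Tr.leaf (nat_lit 0x7ffffffffffffffffffffff0007ffffffffffffffffffffff0007ffffffffffffffffffffff0007ffffffffffffffffffffff0007ffffffffffffffffffffff0007ffffffffffffffffffffff84b7ffc2b201606c82e42721196397ffc0a80d402980480a80756297ffc1a6072009024c0aa0746097ffc1ac03902a02540240f3438fffc0e407305b0044130077428fffc0f00b800881d812e078418fffc16e09505b81e01ac011408fffc12a09701c00dc0220362587ffc0200b101a80d00660320007ffc06203002800c00a0030))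

noncomputable def T : Tr := t0

def RT : List (List (List Nat)) := [
  [[nat_lit 3, nat_lit 0, nat_lit 3],
   [nat_lit 1, nat_lit 2, nat_lit 2],
   [nat_lit 7],
   [nat_lit 4, nat_lit 0, nat_lit 4, nat_lit 3, nat_lit 4, nat_lit 3]],
  [[nat_lit 3, nat_lit 1, nat_lit 3],
   [nat_lit 2, nat_lit 1, nat_lit 2],
   [nat_lit 3, nat_lit 3, nat_lit 0]],
  [[nat_lit 0, nat_lit 3, nat_lit 1],
   [nat_lit 1, nat_lit 3, nat_lit 0],
   [nat_lit 7],
   [nat_lit 4, nat_lit 3, nat_lit 1, nat_lit 4, nat_lit 0, nat_lit 4]],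
  [[nat_lit 1, nat_lit 1, nat_lit 2],
   [nat_lit 2, nat_lit 1, nat_lit 1]],
  [[nat_lit 7],
   [nat_lit 3, nat_lit 1, nat_lit 5, nat_lit 1, nat_lit 4, nat_lit 2, nat_lit 5, nat_lit 0],
   [nat_lit 2, nat_lit 5, nat_lit 0, nat_lit 4, nat_lit 3, nat_lit 1, nat_lit 5, nat_lit 1],
   [nat_lit 1, nat_lit 4, nat_lit 0, nat_lit 2, nat_lit 4, nat_lit 2],
   [nat_lit 0, nat_lit 4, nat_lit 3, nat_lit 4, nat_lit 3, nat_lit 1]],
  [[nat_lit 2, nat_lit 1, nat_lit 5, nat_lit 0, nat_lit 5, nat_lit 2],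
   [nat_lit 3, nat_lit 5, nat_lit 1, nat_lit 5, nat_lit 0, nat_lit 3],
   [nat_lit 2, nat_lit 5, nat_lit 2, nat_lit 1, nat_lit 5, nat_lit 0],
   [nat_lit 0, nat_lit 5, nat_lit 2, nat_lit 5, nat_lit 2, nat_lit 1],
   [nat_lit 1, nat_lit 4, nat_lit 2, nat_lit 5, nat_lit 0, nat_lit 4, nat_lit 3, nat_lit 1]],
  []]

def HT : List (List (Nat × Nat × Nat)) := [
  [(1, 7, 0), (1, 6, 3), (2, 0, 0), (1, 8, 0)],
  [(1, 7, 2), (0, 7, 1), (0, 6, 2)],
  [(1, 7, 1), (1, 7, 3), (2, 2, 0), (1, 8, 4)],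
  [(1, 6, 2), (1, 6, 1)],
  [(2, 4, 0), (1, 10, 7), (1, 10, 3), (0, 8, 5), (1, 8, 1)],
  [(1, 9, 5), (0, 9, 3), (1, 9, 3), (1, 9, 1), (1, 10, 1)],
  []]

def R : List (List Nat) :=
  [[0, 1],
   [1, 0],
   [2, 3],
   [3, 2],
   [4, 4],
   [5, 5],
   [0, 0, 3, 3],
   [0, 2, 1, 2],
   [0, 2, 4, 2, 4, 1, 4],
   [0, 3, 5, 3, 5, 1, 5],
   [0, 2, 4, 1, 5, 3, 4, 0, 5]]

def W : List (List Nat) := [[0],
   [1],
   [2],
   [3],
   [4]]

noncomputable def P : Par := ⟨T, (nat_lit 4), (nat_lit 15), (nat_lit 104), (nat_lit 13), (nat_lit 8191), (nat_lit 5), (nat_lit 31), (nat_lit 6), (nat_lit 26), (nat_lit 32), (nat_lit 0x398a410c01), RT⟩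

noncomputable def J0 : List Nat := [
  nat_lit 0x2b200015900008c8080068844400031800a1004680811120445a0c2d28b014e2c20d1447042108421084210842108421084210842108421084210842108421]

theorem c0 : chk T (nat_lit 4) (nat_lit 15) (nat_lit 104) (nat_lit 13) (nat_lit 8191) (nat_lit 5) (nat_lit 31) (nat_lit 6) (nat_lit 26) (nat_lit 32) (nat_lit 0x398a410c01) (nat_lit 3) (nat_lit 7) RT (nat_lit 16) J0 (nat_lit 16) = true := by
  decide +kernel

theorem r0 : P.RowsOK 16 32 := chk_sound P _ _ _ J0 _ _ (by decide +kernel) c0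

theorem index.{u} : IndexLe.{u} 6 R W 10 :=
  indexLe_of_cert P HT (by decide +kernel)
    (show P.RowsOK 16 32 from r0)

end Tk0

theorem upK : CardLe (genW s [[0], [1], [2], [3], [4], [5]]) 720 :=
  CardLe.tc (V' := [[0], [1], [2], [3], [4]]) (n := 10) (m := 72) [0, 1, 2, 3, 4, 5] Tk0.index pres.sat (by decide +kernel) (by decide +kernel) (by decide +kernel) upK_1

theorem up : CardLe (gen s 7) 7920 := upK.step (Top.index _ s pres.sat)

end Cfsg.Agent.Comp.M11
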